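import Cfsg.Agent.GAL.Fin.TwoB
import Cfsg.Agent.GAL.Odd.Fin
import Cfsg.Agent.GAL.Spor.Part
import Cfsg.Agent.GAL.All
import Cfsg.Agent.ODD.Alt.Gal

/-!
# S4617 / S4618: all boxes from the remaining tables (helper20, GAL)
-/

set_option autoImplicit false

namespace Cfsg.Agent.GAL.Fin

open Cfsg Cfsg.Lie Cfsg.Spor Cfsg.Agent.TAB.Use

universe u

theorem allBox_of5 (f42 : ∀ (F : Type) [Field F] [Fintype F], Fintype.card F = 2 → OddSig (chevF4.group F))
    (fi23 : OddSig Fi23) (fi24 : OddSig Fi24') (hn : OddMoved HN ∧ OddSigAut HN) (b : OddSig BabyMonster) :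
    AllBox.{u} :=
  allBox_of
    { alt := fun _ _ _ _ h => ODD.Alt.boxAlt h
      two := two_of boxTwo f42
      odd := Odd.boxOdd
      tits := Spor.rowTits
      spor := Spor.spor_of4 fi23 fi24 hn b }

end Cfsg.Agent.GAL.Fin
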