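import Cfsg.Agent.GAL.Fin.Main
import Cfsg.Agent.TAB.F42.G.Out
import Cfsg.Agent.TAB.F23C.Main
import Cfsg.Agent.TAB.HN.Sig
import Cfsg.Agent.TAB.B.Fin.Main

/-!
# S4617 / S4618: all boxes from the table of `Fi₂₄'` (helper20, GAL)
-/

set_option autoImplicit false

namespace Cfsg.Agent.GAL.Fin

open Cfsg Cfsg.Lie Cfsg.Spor Cfsg.Agent.TAB.Use

universe u

theorem allBox_of1 (fi24 : OddSig Fi24') : AllBox.{u} :=
  allBox_of5 (fun F _ _ hF => TAB.F42.G.sig F hF) TAB.F23C.sig fi24 TAB.HN.sig TAB.B.Fin.sig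

end Cfsg.Agent.GAL.Fin
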