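import Cfsg.Agent.GAL.Rows
import Cfsg.Agent.H332.PQ.Rgd
import Cfsg.Agent.Nodes.RGDChev
import Cfsg.Agent.ChevalleyStructure.NConj
import Cfsg.Agent.KFacts.Mult.SpTwo
import Cfsg.Agent.ODD.Sp2.Main

/-!
# S4617 / S4618: split groups over the field with two elements (helper20, GAL)

The torus is trivial, so that the Sylow 2-subgroup is self-normalizing.
-/

set_option autoImplicit false

namespace Cfsg.Agent.GAL.Fin

open Cfsg Cfsg.Lie Subgroup Cfsg.Agent.TAB.Use
open Cfsg.Agent.ChevalleyStructure.CoxeterGeom Cfsg.Agent.Tits.Roots Cfsg.Agent.Nodes Cfsg.Agent.Nodes.BNOf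
  Cfsg.Agent.Nodes.RGDLib

/-- a trivial torus -/
theorem box_of_rgd {I W S : Type} [Fintype I] [DecidableEq I] [Group W] [Group S] [Finite W] [Finite S]
    {M : CoxeterMatrix I} {cs : CoxeterSystem M W} {A : I → I → ℤ} {h : IsCartan M A} {T : Subgroup S} {n : I → S}
    {X : (I → ℤ) → Subgroup S} (R : RGD cs h 2 T n X) (hG : G1 cs h X = ⊤) (hT : T = ⊥) (hF : OddSig S) : Box S := by
  have := fact2
  refine box_of_self (R.isPGroup_Upos.toSylow (H332.PQ.index_U R hG)) ?_ hF
  show normalizer (RGD.Sup X (RGD.Pos cs h) : Set S) ≤ RGD.Sup X (RGD.Pos cs h)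
  rw [H332.PQ.normalizer_eq_B R hG, RGD.B, hT, bot_sup_eq]

theorem eq_one_of_card {F : Type} [Field F] [Fintype F] (hF : Fintype.card F = 2) {t : F} (ht : t ≠ 0) : t = 1 := by
  have h := FiniteField.pow_card_sub_one_eq_one t ht
  rwa [hF, pow_one] at h

theorem charP_of_card {F : Type} [Field F] [Fintype F] (hF : Fintype.card F = 2) : CharP F 2 := by
  have := fact2
  exact charP_of_card_eq_prime hF

/-- the Chevalley groups over the field with two elements -/
theorem box_chev {D : ChevalleyDatum} {l : ℕ} {M : CoxeterMatrix (Fin l)} (hp : RGDChev.IsType D l M) (F : Type)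
    [Field F] [Fintype F] (hF : Fintype.card F = 2) (h : OddSig (D.group F)) : Box (D.group F) := by
  have := fact2
  have := charP_of_card hF
  have := RGDChev.finite_W hp M.toCoxeterSystem
  refine box_of_rgd (RGDChev.rgd (K := F) hp M.toCoxeterSystem 2) (RGDChev.G1_eq_top hp _) ?_ h
  have h1 : D.diagonalSubgroup F = ⊥ := by
    rw [eq_bot_iff, ChevalleyStructure.Elts.diagonal_le_iff hp.inList]
    intro r _ t ht
    rw [eq_one_of_card hF ht, ChevalleyStructure.NConj.hG_one]
    exact one_mem _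
  rw [h1, bot_subgroupOf]

/-- `F₄(2)` -/
theorem box_f42 (F : Type) [Field F] [Fintype F] (hF : Fintype.card F = 2) (h : OddSig (chevF4.group F)) :
    Box (chevF4.group F) :=
  box_chev (l := 4) (M := CoxeterMatrix.F₄) (by simp [RGDChev.IsType, RGDChev.typeList]) F hF h

/-- `Sp_{2m}(2)` -/
theorem box_sp2 (m : ℕ) (hm : 0 < m) (F : Type) [Field F] [Fintype F] (hF : Fintype.card F = 2) : Box (PSp m F) := by
  have := fact2
  have := charP_of_card hF
  have := TypeC.finite_W (CoxeterMatrix.B m).toCoxeterSystem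
  refine box_of_rgd (KFacts.Mult.SpTwo.rgdSp (n := m) (F := F) (CoxeterMatrix.B m).toCoxeterSystem)
    (WittModel.G1_eq_top _ hm _) ?_ (ODD.Sp2.oddSig m F hF)
  rw [eq_bot_iff]
  rintro _ ⟨g, hg, rfl⟩
  have h1 : g = 1 := by
    apply Subtype.ext
    apply LinearEquiv.toLinearMap_injective
    refine (Pi.basisFun F _).ext fun j => ?_
    rw [Pi.basisFun_apply]
    rcases j with i | i
    · obtain ⟨l, hl, e⟩ := hg.2 (i, false)
      rw [eq_one_of_card hF hl, one_smul] at e
      exact e
    · obtain ⟨l, hl, e⟩ := hg.2 (i, true)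
      rw [eq_one_of_card hF hl, one_smul] at e
      exact e
  rw [h1, map_one]
  exact one_mem _

end Cfsg.Agent.GAL.Fin
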