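import Cfsg.Agent.GAL.Fin.Q2
import Cfsg.Agent.ODD.Cov.Two

/-!
# S4617 / S4618: the rows in characteristic two (helper20, GAL)

`BoxTwo` : the families; `two_of` : the row `IsLieTypeChar 2`.
-/

set_option autoImplicit false

namespace Cfsg.Agent.GAL.Fin

open Cfsg Cfsg.Lie Cfsg.Agent.TAB.Use Cfsg.Agent.ODD

/-- Chevalley groups over fields of characteristic two with at least `b` elements -/
def RowCh (D : ChevalleyDatum) (b : ℕ) : Prop :=
  ∀ (F : Type) [Field F] [Fintype F] [CharP F 2], b ≤ Fintype.card F → IsSimpleGroup (D.group F) → Box (D.group F)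

/-- the families in characteristic two -/
structure BoxTwo : Prop where
  psl : RowG fun S _ => IsPSLChar 2 S
  psu : RowG fun S _ => IsPSUChar 2 S
  psp : ∀ (F : Type) [Field F] [Fintype F] [CharP F 2] (m : ℕ), 2 ≤ m → 4 ≤ Fintype.card F →
    IsSimpleGroup (PSp m F) → Box (PSp m F)
  plus : RowG fun S _ => IsPOmegaPlusChar 2 S
  minus : RowG fun S _ => IsPOmegaMinusChar 2 S
  g2 : RowCh chevG2 4
  f4 : RowCh chevF4 4
  e6 : RowCh chevE6 2
  e7 : RowCh chevE7 2
  e8 : RowCh chevE8 2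
  te6 : ∀ (F : Type) [Field F] [Fintype F] [CharP F 2] (q : ℕ), IsPrimePow q → Fintype.card F = q ^ 2 →
    IsSimpleGroup (twistedE6 F q) → Box (twistedE6 F q)
  td4 : ∀ (F : Type) [Field F] [Fintype F] [CharP F 2] (q : ℕ), IsPrimePow q → Fintype.card F = q ^ 3 →
    IsSimpleGroup (twistedD4 F q) → Box (twistedD4 F q)
  sz : RowG fun S _ => IsoSuzuki S
  tf4 : RowG fun S _ => Iso2F4 S

theorem four_le (F : Type) [Field F] [Fintype F] [CharP F 2] (h : Fintype.card F ≠ 2) : 4 ≤ Fintype.card F := by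
  have h1 := Cv.even_card F
  have h2 := Fintype.one_lt_card (α := F)
  obtain ⟨k, hk⟩ := h1
  omega

/-- the row of the groups of Lie type in characteristic two -/
theorem two_of (h : BoxTwo) (h4 : ∀ (F : Type) [Field F] [Fintype F], Fintype.card F = 2 → OddSig (chevF4.group F)) :
    RowG fun S _ => IsLieTypeChar 2 S := by
  intro S _ _ hS h0
  rcases h0 with h0 | h0 | h0 | h0 | h0 | h0 | h0 | h0 | h0 | h0 | h0
  · exact h.psl S h0
  · obtain ⟨F, _, _, _, n, hn, -, ⟨e⟩⟩ := h0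
    by_cases h2 : Fintype.card F = 2
    · exact Box.congr e (box_sp2 n (by omega) F h2)
    · exact Box.congr e (h.psp F n hn (four_le F h2) e.symm.isSimpleGroup)
  · exact h.psu S h0
  · obtain ⟨F, _, _, _, n, -, ho, -⟩ := h0
    exact absurd ho (Nat.not_odd_iff_even.2 (Cv.even_card F))
  · exact h.plus S h0
  · exact h.minus S h0
  · obtain ⟨F, _, _, _, ⟨h1, ⟨e⟩⟩ | ⟨⟨e⟩⟩ | ⟨⟨e⟩⟩ | ⟨⟨e⟩⟩ | ⟨⟨e⟩⟩⟩ := h0
    · exact Box.congr e (h.g2 F (four_le F (by omega)) e.symm.isSimpleGroup)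
    · by_cases h2 : Fintype.card F = 2
      · exact Box.congr e (box_f42 F h2 (h4 F h2))
      · exact Box.congr e (h.f4 F (four_le F h2) e.symm.isSimpleGroup)
    · exact Box.congr e (h.e6 F Fintype.one_lt_card e.symm.isSimpleGroup)
    · exact Box.congr e (h.e7 F Fintype.one_lt_card e.symm.isSimpleGroup)
    · exact Box.congr e (h.e8 F Fintype.one_lt_card e.symm.isSimpleGroup)
  · obtain ⟨F, _, _, _, q, hq, ⟨h1, ⟨e⟩⟩ | ⟨h1, ⟨e⟩⟩⟩ := h0
    · exact Box.congr e (h.te6 F q hq h1 e.symm.isSimpleGroup)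
    · exact Box.congr e (h.td4 F q hq h1 e.symm.isSimpleGroup)
  · exact h.sz S h0.2
  · exact h.tf4 S h0.2
  · exact absurd h0.1 (by decide)

end Cfsg.Agent.GAL.Fin
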