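import Cfsg.Agent.GAL.Fin.Two
import Cfsg.Agent.GAL.C2.Gen
import Cfsg.Agent.GAL.C2.RowC
import Cfsg.Agent.GAL.C2.RowD
import Cfsg.Agent.GAL.C2.RowE
import Cfsg.Agent.GAL.C2.RowX
import Cfsg.Agent.GAL.Two.RowL
import Cfsg.Agent.GAL.Two.RowU

/-!
# S4617 / S4618: the rows in characteristic two, plugged in (helper20, GAL)
-/

set_option autoImplicit false

namespace Cfsg.Agent.GAL.Fin

open Cfsg Cfsg.Lie Cfsg.Agent.GAL.C2

theorem boxTwo : BoxTwo where
  psl := Two.row_psl boxes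
  psu := Two.row_psu boxes
  psp := box_psp boxes
  plus := row_plus boxes
  minus := row_minus boxes
  g2 F _ _ _ h _ := box_G2 boxes F (by omega)
  f4 F _ _ _ h _ := box_F4 boxes F (by omega)
  e6 F _ _ _ _ _ := box_E6 boxes F
  e7 F _ _ _ _ _ := box_E7 boxes F
  e8 F _ _ _ _ _ := box_E8 boxes F
  te6 F _ _ _ _ hq hF _ := box_tE6 boxes F hq hF
  td4 F _ _ _ _ hq hF _ := box_tD4 boxes F hq hF
  sz := row_sz boxes
  tf4 _ _ _ _ h := box_iso2F4 boxes h

end Cfsg.Agent.GAL.Fin
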