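import Cfsg.Agent.GAL.Fin.One
import Cfsg.Agent.GAL.Red.Main
import Cfsg.Agent.TAB.F24C.Main

/-!
# S4617 / S4618: all boxes, without hypotheses (helper20, GAL)
-/

set_option autoImplicit false

namespace Cfsg.Agent.GAL.Fin

universe u

theorem allBox : AllBox.{u} := allBox_of1 TAB.F24C.sig

end Cfsg.Agent.GAL.Fin
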